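import Mathlib

/-!
# The largest open over which a morphism has a property, and flat open base change
-/

universe u
open CategoryTheory CategoryTheory.Limits AlgebraicGeometry

namespace Groth.Agent.MaxOpen

variable {P : MorphismProperty Scheme.{u}} [P.IsStableUnderBaseChange] {X Y : Scheme.{u}} {f : X ⟶ Y}

/-- the base change of `f` along `t` has `P` -/
def Has (P : MorphismProperty Scheme.{u}) (f : X ⟶ Y) {T : Scheme.{u}} (t : T ⟶ Y) : Prop :=
  P (pullback.snd f t)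

theorem has_comp {T T' : Scheme.{u}} {t : T ⟶ Y} (h : Has P f t) (a : T' ⟶ T) : Has P f (a ≫ t) := by
  have sq : IsPullback (pullback.lift (pullback.fst f (a ≫ t)) (pullback.snd f (a ≫ t) ≫ a)
      (by rw [pullback.condition, Category.assoc])) (pullback.snd f (a ≫ t)) (pullback.snd f t) a :=
    IsPullback.of_right (by rw [pullback.lift_fst]; exact IsPullback.of_hasPullback f (a ≫ t))
      (pullback.lift_snd _ _ _) (IsPullback.of_hasPullback f t)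
  exact MorphismProperty.of_isPullback sq h

theorem has_descend [P.DescendsAlong (@Flat ⊓ @Surjective ⊓ @QuasiCompact)] {T T' : Scheme.{u}} {t : T ⟶ Y}
    (a : T' ⟶ T) [Flat a] [Surjective a] [QuasiCompact a] (h : Has P f (a ≫ t)) : Has P f t := by
  have sq : IsPullback (pullback.lift (pullback.fst f (a ≫ t)) (pullback.snd f (a ≫ t) ≫ a)
      (by rw [pullback.condition, Category.assoc])) (pullback.snd f (a ≫ t)) (pullback.snd f t) a :=
    IsPullback.of_right (by rw [pullback.lift_fst]; exact IsPullback.of_hasPullback f (a ≫ t))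
      (pullback.lift_snd _ _ _) (IsPullback.of_hasPullback f t)
  exact MorphismProperty.of_isPullback_of_descendsAlong (P := P)
    (Q := @Flat ⊓ @Surjective ⊓ @QuasiCompact) sq.flip ⟨⟨‹_›, ‹_›⟩, ‹_›⟩ h

theorem has_iff_restrict (V : Y.Opens) : Has P f V.ι ↔ P (f ∣_ V) := by
  refine (P.arrow_mk_iso_iff ?_)
  exact Arrow.isoMk (pullbackRestrictIsoRestrict f V) (Iso.refl _) (by simp [← cancel_mono V.ι, pullback.condition])

theorem has_pullback_iff {Y' T : Scheme.{u}} (g : Y' ⟶ Y) (t : T ⟶ Y') :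
    Has P (pullback.snd f g) t ↔ Has P f (t ≫ g) := by
  refine P.arrow_mk_iso_iff ?_
  exact Arrow.isoMk (pullbackLeftPullbackSndIso f g t) (Iso.refl _) (by simp)

variable [P.DescendsAlong (@Flat ⊓ @Surjective ⊓ @QuasiCompact)]

theorem preimage_spec {Y' : Scheme.{u}} (g : Y' ⟶ Y) [Flat g] (hg : IsOpenMap g)
    (W : Y.Opens) (hW : P (f ∣_ W)) (hmax : ∀ W₀ : Y.Opens, P (f ∣_ W₀) → W₀ ≤ W) :
    Has P f ((g ⁻¹ᵁ W).ι ≫ g) ∧ ∀ W₀ : Y'.Opens, Has P f (W₀.ι ≫ g) → W₀ ≤ g ⁻¹ᵁ W := by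
  refine ⟨?_, fun W₀ h₀ => ?_⟩
  · rw [← morphismRestrict_ι]
    exact has_comp ((has_iff_restrict W).mpr hW) _
  intro x hx
  obtain ⟨V, hV, hxV, hVle⟩ := exists_isAffineOpen_mem_and_subset (x := g x)
    (U := (⟨g '' (W₀ : Set Y'), hg _ W₀.2⟩ : Y.Opens)) ⟨x, hx, rfl⟩
  have hcov : (V : Set Y) ⊆ ⋃ A : {A : Y'.affineOpens // A.1 ≤ W₀ ⊓ g ⁻¹ᵁ V}, g '' (A.1.1 : Set Y') := by
    intro y hy
    obtain ⟨z, hz, rfl⟩ := hVle hy
    obtain ⟨A, hA, hzA, hAle⟩ := exists_isAffineOpen_mem_and_subset (x := z) (U := W₀ ⊓ g ⁻¹ᵁ V) ⟨hz, hy⟩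
    exact Set.mem_iUnion.mpr ⟨⟨⟨A, hA⟩, hAle⟩, z, hzA, rfl⟩
  obtain ⟨s, hs⟩ := hV.isCompact.elim_finite_subcover _ (fun A => hg _ A.1.1.2) hcov
  let W₂ : Y'.Opens := ⨆ A : s, A.1.1.1
  have hW₂ : W₂ ≤ W₀ ⊓ g ⁻¹ᵁ V := iSup_le fun A => A.1.2
  haveI : CompactSpace (W₂ : Scheme.{u}) := isCompact_iff_compactSpace.mp (by
    rw [show (W₂ : Set Y') = ⋃ A : s, (A.1.1.1 : Set Y') from TopologicalSpace.Opens.coe_iSup _]
    exact isCompact_iUnion fun A => A.1.1.2.isCompact)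
  haveI : IsAffine (V : Scheme.{u}) := hV
  let q : (W₂ : Scheme.{u}) ⟶ (V : Scheme.{u}) := IsOpenImmersion.lift V.ι (W₂.ι ≫ g) (by
    rintro _ ⟨z, rfl⟩
    rw [Scheme.Opens.range_ι]
    exact (hW₂ z.2).2)
  have hq : q ≫ V.ι = W₂.ι ≫ g := IsOpenImmersion.lift_fac _ _ _
  haveI : Flat q := MorphismProperty.of_isPullback (P := @Flat)
    (IsPullback.of_horiz_isIso_mono ⟨by rw [Category.id_comp, hq]⟩ :
      IsPullback (𝟙 _) q (W₂.ι ≫ g) V.ι) inferInstance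
  haveI : Surjective q := ⟨fun y => by
    obtain ⟨A, hA, hz⟩ := Set.mem_iUnion₂.mp (hs y.2)
    obtain ⟨z, hz, e⟩ := hz
    refine ⟨⟨z, TopologicalSpace.Opens.mem_iSup.mpr ⟨⟨A, hA⟩, hz⟩⟩, Subtype.ext ?_⟩
    exact (congrArg (fun k => k ⟨z, TopologicalSpace.Opens.mem_iSup.mpr ⟨⟨A, hA⟩, hz⟩⟩) hq).trans e⟩
  haveI : QuasiCompact q := inferInstance
  have h2 : Has P f (q ≫ V.ι) := by
    rw [hq, ← Y'.homOfLE_ι (hW₂.trans inf_le_left), Category.assoc]
    exact has_comp h₀ _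
  exact hmax V ((has_iff_restrict V).mp (has_descend q h2)) hxV

end Groth.Agent.MaxOpen
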